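import Groth.Agent.H64.Et.DiagConv
import Groth.Agent.H64.Psh.DiagOfComp
import Groth.Agent.H64.Psh.AlgStackRep
import Groth.Agent.H64.Psh.PProps
import Groth.Agent.H65.AlgStDiagComp
import Groth.Agent.H65.AlgStQC5

set_option autoImplicit false
open CategoryTheory CategoryTheory.Limits Opposite AlgebraicGeometry
universe u

/-! A stack over an algebraic stack all of whose base changes to schemes are algebraic is algebraic: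
the diagonal and atlas parts (independent of the topology). -/

namespace Groth.Agent.H64.Et

open Groth.Agent.H32 Groth.Agent.H64 Groth.Agent.H64.PTh Groth.Agent.H64.FpRep AlgSt

variable {S : Scheme.{u}} {𝒳 𝒴 : AlgSt.Cat S}

/-- the absolute diagonal of `𝒳` is representable if that of `𝒴` and of all base changes of `𝒳` to
schemes over `𝒴` are -/
theorem repByAlgSp1_diag_toSelf_of_forall (h𝒳 : FibCat.IsFibGrpd 𝒳.p) (h𝒴 : FibCat.IsFibGrpd 𝒴.p)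
    (hΔ𝒴 : RepByAlgSp1 (FibCat.diag (FibCat.toSelf 𝒴))) (f : 𝒳 ⥤ᵇ 𝒴)
    (hf : ∀ (U : Over S) (g : FibCat.overCat U ⥤ᵇ 𝒴),
      RepByAlgSp1 (FibCat.diag (FibCat.toSelf (FibCat.fp g f)))) :
    RepByAlgSp1 (FibCat.diag (FibCat.toSelf 𝒳)) := by
  have h1 : RepByAlgSp1 (FibCat.diag f) := by
    rw [repByAlgSp1_iff_top]
    refine repByAlgSpWith_diag_of_forall ⊤ f h𝒳 h𝒴 (fun T y => ?_)
    rw [← repByAlgSp1_iff_top]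
    have hT : FibCat.IsFibGrpd (FibCat.overCat T).p :=
      (Groth.Agent.H64.Recog.isFibSetoid_overCat T).1
    exact repByAlgSp1_diag (isFibGrpd_fp _ _ hT h𝒳 h𝒴) hT (hf T y)
      (Groth.Agent.H65.AlgStQC5.isAlgStack_overCat T).diag (FibCat.fpFst y f)
  rw [toSelf_eq_comp f]
  rw [repByAlgSp1_iff_top]
  exact Groth.Agent.H65.AlgStDiagComp.repByAlgSpWith_diag_comp ⊤ stableBC_top
    (fun _ _ _ _ _ _ _ _ _ _ => trivial) (isLocalOnBase_top _) h𝒳 h𝒴 (isFibGrpd_selfOver _)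
    f (FibCat.toSelf 𝒴) ((repByAlgSp1_iff_top _).1 h1) ((repByAlgSp1_iff_top _).1 hΔ𝒴)

theorem isEtaleMor_comp {X Y Z : AlgSp.Sp S} (a : X ⟶ Y) (b : Y ⟶ Z) (ha : AlgSp.IsEtaleMor a)
    (hb : AlgSp.IsEtaleMor b) : AlgSp.IsEtaleMor (a ≫ b) := fun U φ hφ => by
  rw [← Category.assoc]
  exact hb _ (ha φ hφ)

/-- an atlas of the base change of `𝒳` to an atlas of `𝒴` is an atlas of `𝒳` -/
theorem repByAlgSpWith_atlas_of_fp (Q : MorphismProperty (AlgSp.Sp S)) (hQb : StableBC Q)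
    (hQc : ∀ ⦃X Y Z : AlgSp.Sp S⦄, AlgSp.IsAlgSpace X → AlgSp.IsAlgSpace Y → AlgSp.IsAlgSpace Z →
      ∀ (a : X ⟶ Y) (b : Y ⟶ Z), Q a → Q b → Q (a ≫ b))
    (hQ : AlgSp.IsLocalOnBase AlgSp.IsFppfCover Q)
    (h𝒳 : FibCat.IsFibGrpd 𝒳.p) (h𝒴 : FibCat.IsFibGrpd 𝒴.p) (f : 𝒳 ⥤ᵇ 𝒴) {V : Over S}
    (y₀ : FibCat.overCat V ⥤ᵇ 𝒴) (hy : RepByAlgSpWith Q y₀) {W : Over S}
    (x : FibCat.overCat W ⥤ᵇ FibCat.fp y₀ f) (hx : RepByAlgSpWith Q x) :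
    RepByAlgSpWith Q (BasedFunctor.comp x (FibCat.fpSnd y₀ f)) := by
  have hV : FibCat.IsFibGrpd (FibCat.overCat V).p :=
    (Groth.Agent.H64.Recog.isFibSetoid_overCat V).1
  have hW : FibCat.IsFibGrpd (FibCat.overCat W).p :=
    (Groth.Agent.H64.Recog.isFibSetoid_overCat W).1
  exact repByAlgSpWith_comp hW (isFibGrpd_fp _ _ hV h𝒳 h𝒴) hQb hQc hQ x _ hx
    (repByAlgSpWith_fpSnd Q y₀ f hy)

theorem hasAtlas_smooth_of_fp (h𝒳 : FibCat.IsFibGrpd 𝒳.p) (h𝒴 : FibCat.IsFibGrpd 𝒴.p)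
    (f : 𝒳 ⥤ᵇ 𝒴) (hat : HasAtlas (AlgSp.LocP @Smooth) 𝒴)
    (hf : ∀ (U : Over S) (g : FibCat.overCat U ⥤ᵇ 𝒴),
      HasAtlas (AlgSp.LocP @Smooth) (FibCat.fp g f)) :
    HasAtlas (AlgSp.LocP @Smooth) 𝒳 := by
  obtain ⟨V, y₀, hy₁, hy₂⟩ := hat
  obtain ⟨W, x, hx₁, hx₂⟩ := hf V y₀
  refine ⟨W, BasedFunctor.comp x (FibCat.fpSnd y₀ f), ?_, ?_⟩
  · exact repByAlgSpWith_atlas_of_fp _ (stableBC_locP Groth.Agent.H50.goodClass_smooth)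
      (fun _ _ _ _ hY _ a b ha hb => Groth.Agent.H50.goodClass_smooth.locP_comp hY a b ha hb)
      isLocalOnBase_fppf_smooth h𝒳 h𝒴 f y₀ hy₁ x hx₁
  · exact repByAlgSpWith_atlas_of_fp _ stableBC_surj
      (fun _ _ _ _ _ _ _ _ ha hb => Groth.Agent.H49.isSurjectiveMor_comp ha hb)
      isLocalOnBase_fppf_surj h𝒳 h𝒴 f y₀ hy₂ x hx₂

theorem hasAtlas_etale_of_fp (h𝒳 : FibCat.IsFibGrpd 𝒳.p) (h𝒴 : FibCat.IsFibGrpd 𝒴.p)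
    (f : 𝒳 ⥤ᵇ 𝒴) (hat : HasAtlas AlgSp.IsEtaleMor 𝒴)
    (hf : ∀ (U : Over S) (g : FibCat.overCat U ⥤ᵇ 𝒴),
      HasAtlas AlgSp.IsEtaleMor (FibCat.fp g f)) :
    HasAtlas AlgSp.IsEtaleMor 𝒳 := by
  obtain ⟨V, y₀, hy₁, hy₂⟩ := hat
  obtain ⟨W, x, hx₁, hx₂⟩ := hf V y₀
  refine ⟨W, BasedFunctor.comp x (FibCat.fpSnd y₀ f), ?_, ?_⟩
  · exact repByAlgSpWith_atlas_of_fp _ stableBC_etale
      (fun _ _ _ _ _ _ a b ha hb => isEtaleMor_comp a b ha hb)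
      isLocalOnBase_fppf_etale h𝒳 h𝒴 f y₀ hy₁ x hx₁
  · exact repByAlgSpWith_atlas_of_fp _ stableBC_surj
      (fun _ _ _ _ _ _ _ _ ha hb => Groth.Agent.H49.isSurjectiveMor_comp ha hb)
      isLocalOnBase_fppf_surj h𝒳 h𝒴 f y₀ hy₂ x hx₂

/-- a stack over an algebraic stack whose base changes to schemes are algebraic is algebraic -/
theorem isAlgStack_of_forall_fp (K : Precoverage Scheme.{u})
    (h𝒳 : Stk.IsStack (QuotSh.J K S) 𝒳) (h𝒴 : IsAlgStack K 𝒴) (f : 𝒳 ⥤ᵇ 𝒴)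
    (hf : ∀ (U : Over S) (g : FibCat.overCat U ⥤ᵇ 𝒴), IsAlgStack K (FibCat.fp g f)) :
    IsAlgStack K 𝒳 where
  isStack := h𝒳
  diag := repByAlgSp1_diag_toSelf_of_forall h𝒳.1 h𝒴.isStack.1 h𝒴.diag f (fun U g => (hf U g).diag)
  atlas := hasAtlas_smooth_of_fp h𝒳.1 h𝒴.isStack.1 f h𝒴.atlas (fun U g => (hf U g).atlas)

theorem isDM_of_forall_fp (K : Precoverage Scheme.{u})
    (h𝒳 : Stk.IsStack (QuotSh.J K S) 𝒳) (h𝒴 : IsDM K 𝒴) (f : 𝒳 ⥤ᵇ 𝒴)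
    (hf : ∀ (U : Over S) (g : FibCat.overCat U ⥤ᵇ 𝒴), IsDM K (FibCat.fp g f)) :
    IsDM K 𝒳 :=
  ⟨isAlgStack_of_forall_fp K h𝒳 h𝒴.1 f (fun U g => (hf U g).1),
    hasAtlas_etale_of_fp h𝒳.1 h𝒴.1.isStack.1 f h𝒴.2 (fun U g => (hf U g).2)⟩

end Groth.Agent.H64.Et
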