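import Groth.Agent.H64.Et.RepAt
import Groth.Agent.H64.Psh.PDescent2
import Groth.Agent.H64.Psh.DiagComp
import Groth.Agent.H64.Stk.Whisker
import Groth.Agent.H65.AlgStCmpAlg

set_option autoImplicit false
open CategoryTheory CategoryTheory.Limits Opposite AlgebraicGeometry
universe u

/-! Cancellation for morphisms representable by algebraic spaces with a property `P` satisfying
the cancellation law `P b → P (a ≫ b) → P a` (no locality needed). -/

namespace Groth.Agent.H64.Et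

open Groth.Agent.H32 Groth.Agent.H64 Groth.Agent.H64.PTh Groth.Agent.H64.Recog AlgSt

variable {S : Scheme.{u}} {P : MorphismProperty (AlgSp.Sp S)}

theorem repByAlgSpWith_cancel_of_hcancel {𝒜 ℬ 𝒞 : AlgSt.Cat S} (hPb : StableBC P)
    (hcancel : ∀ ⦃X Y Z : AlgSp.Sp S⦄, AlgSp.IsAlgSpace X → AlgSp.IsAlgSpace Y →
      AlgSp.IsAlgSpace Z → ∀ (a : X ⟶ Y) (b : Y ⟶ Z), P b → P (a ≫ b) → P a)
    (u : 𝒜 ⥤ᵇ ℬ) (v : ℬ ⥤ᵇ 𝒞) (hv : RepByAlgSpWith P v)
    (huv : RepByAlgSpWith P (BasedFunctor.comp u v)) : RepByAlgSpWith P u := by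
  intro T t
  show RepAt P u t
  obtain ⟨B₀, eB, heB, hPB⟩ := hv T (BasedFunctor.comp t v)
  obtain ⟨C₀, eC, heC, hPC⟩ := huv T (BasedFunctor.comp t v)
  obtain ⟨d⟩ := IsEquivOver.nonempty_data heB
  let a : ofSp C₀.obj ⥤ᵇ FibCat.fp (FibCat.fpSnd (BasedFunctor.comp t v) v) u :=
    BasedFunctor.comp eC (fpPaste₂ u v (BasedFunctor.comp t v))
  have ha : FibCat.IsEquivOver a :=
    isEquivOver_comp heC (isEquivOver_fpPaste₂ u v (BasedFunctor.comp t v))
  let π : FibCat.fp (FibCat.fpSnd (BasedFunctor.comp t v) v) u ⥤ᵇ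
      FibCat.fp (BasedFunctor.comp t v) v := FibCat.fpFst (FibCat.fpSnd (BasedFunctor.comp t v) v) u
  let Pr : ofSp C₀.obj ⥤ᵇ ofSp B₀.obj := BasedFunctor.comp a (BasedFunctor.comp π d.inv)
  obtain ⟨β⟩ := nonempty_iso_ofPshMap Pr
  let c' : C₀.obj ⟶ B₀.obj := ObjectProperty.homMk (pshMapOf Pr)
  let c : C₀ ⟶ B₀ := ObjectProperty.homMk c'
  have β' : ofSpMap c' ≅ Pr := β
  have hc : P c' := by
    refine hcancel C₀.property B₀.property (AlgSp.IsAlgSpace.yon_obj T) c'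
      (spMapOfOver (BasedFunctor.comp eB (FibCat.fpFst (BasedFunctor.comp t v) v))) hPB ?_
    have h1 : c' ≫ spMapOfOver (BasedFunctor.comp eB (FibCat.fpFst (BasedFunctor.comp t v) v)) =
        spMapOfOver (BasedFunctor.comp (ofSpMap c')
          (BasedFunctor.comp eB (FibCat.fpFst (BasedFunctor.comp t v) v))) :=
      (spMapOfOver_ofSpMap_comp c' _).symm
    have h2 : spMapOfOver (F := C₀.obj) (U := T) (BasedFunctor.comp (ofSpMap c')
          (BasedFunctor.comp eB (FibCat.fpFst (BasedFunctor.comp t v) v))) =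
        spMapOfOver (F := C₀.obj) (U := T) (BasedFunctor.comp Pr
          (BasedFunctor.comp eB (FibCat.fpFst (BasedFunctor.comp t v) v))) :=
      spMapOfOver_eq_of_hom (BasedCategory.whiskerRight β'.hom _)
    have h3 : spMapOfOver (F := C₀.obj) (U := T) (BasedFunctor.comp Pr
          (BasedFunctor.comp eB (FibCat.fpFst (BasedFunctor.comp t v) v))) =
        spMapOfOver (F := C₀.obj) (U := T) (BasedFunctor.comp (BasedFunctor.comp a π)
          (FibCat.fpFst (BasedFunctor.comp t v) v)) :=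
      spMapOfOver_eq_of_hom (BasedCategory.whiskerLeft (BasedFunctor.comp a π)
        (BasedCategory.whiskerRight d.counit.hom (FibCat.fpFst (BasedFunctor.comp t v) v)))
    rw [h1, h2, h3]
    exact hPC
  have hmap : RepByAlgSpWith P (ofSpMap c') := repByAlgSpWith_ofSpMap hPb c hc
  have e : BasedFunctor.comp (ofSpMap c') eB ≅ BasedFunctor.comp a π :=
    Iso.trans (bwrIso β' eB)
      (show BasedFunctor.comp Pr eB ≅ BasedFunctor.comp a π from
        bwlIso (BasedFunctor.comp a π) d.counit)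
  have hπ : RepByAlgSpWith P π :=
    repByAlgSpWith_of_square' P π (ofSpMap c') a eB ha heB e hmap
  let σ : FibCat.overCat T ⥤ᵇ FibCat.fp (BasedFunctor.comp t v) v :=
    FibCat.fpLift (F := BasedFunctor.comp t v) (G := v) (BasedFunctor.id _) t (Iso.refl _)
  exact (repAt_fpFst_iff P u (FibCat.fpSnd (BasedFunctor.comp t v) v) σ).1 (hπ T σ)

open Groth.Agent.H65.AlgStCmp in
/-- if the diagonals of `g` and of `f ⋙ g` have `P`, so does the diagonal of `f` -/
theorem repByAlgSpWith_diag_of_comp_of_hcancel {𝒳 𝒴 𝒵 : AlgSt.Cat S} (hPb : StableBC P)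
    (hcancel : ∀ ⦃X Y Z : AlgSp.Sp S⦄, AlgSp.IsAlgSpace X → AlgSp.IsAlgSpace Y →
      AlgSp.IsAlgSpace Z → ∀ (a : X ⟶ Y) (b : Y ⟶ Z), P b → P (a ≫ b) → P a)
    (h𝒳 : FibCat.IsFibGrpd 𝒳.p) (h𝒴 : FibCat.IsFibGrpd 𝒴.p) (h𝒵 : FibCat.IsFibGrpd 𝒵.p)
    (f : 𝒳 ⥤ᵇ 𝒴) (g : 𝒴 ⥤ᵇ 𝒵) (hg : RepByAlgSpWith P (FibCat.diag g))
    (hgf : RepByAlgSpWith P (FibCat.diag (BasedFunctor.comp f g))) :
    RepByAlgSpWith P (FibCat.diag f) := by
  have h1 : RepByAlgSpWith P (cmp f f g) :=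
    Groth.Agent.H65.AlgStCmp.repByAlgSpWith_cmp P h𝒳 h𝒳 h𝒴 h𝒵 f f g hg
  have h2 : RepByAlgSpWith P (BasedFunctor.comp (FibCat.diag f) (cmp f f g)) :=
    repByAlgSpWith_of_iso (diagCompIso f g) hgf
  exact repByAlgSpWith_cancel_of_hcancel hPb hcancel (FibCat.diag f) (cmp f f g) h1 h2

end Groth.Agent.H64.Et
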