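import Groth.Agent.H64.Psh.PComp
import Groth.Agent.H65.AlgStDiagComp
import Groth.Agent.H51.SpUnram

set_option autoImplicit false
open CategoryTheory CategoryTheory.Limits Opposite AlgebraicGeometry
universe v₂ u₂ u

/-! Composition of morphisms representable by algebraic spaces with a property local on the base
for a covering notion for which etale atlases are coverings (e.g. etale coverings). -/

namespace Groth.Agent.H64.Et

open Groth.Agent.H32 Groth.Agent.H64 Groth.Agent.H64.Recog Groth.Agent.H64.FpRep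
  Groth.Agent.H64.PTh AlgSt

variable {S : Scheme.{u}} {P : MorphismProperty (AlgSp.Sp S)}

/-- atlases are coverings for `τ` -/
def AtlasCov (τ : AlgSp.CovNotion S) : Prop :=
  ∀ {Z : AlgSp.Sp S} {U : Over S} (p : (AlgSp.yon S).obj U ⟶ Z),
    AlgSp.RepWith @Etale p → AlgSp.RepWith @Surjective p →
      τ (fun _ : PUnit.{u+1} => (AlgSp.yon S).obj U) (fun _ => p)

theorem atlasCov_fppf : AtlasCov (AlgSp.IsFppfCover (S := S)) :=
  fun p hpE hpS => isFppfCover_atlas p hpE hpS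

theorem atlasCov_et : AtlasCov (AlgSp.IsEtCover (S := S)) :=
  fun p hpE hpS => ⟨fun _ => Groth.Agent.H51.isEtaleMor_of_repWith_etale hpE,
    fun x => ⟨PUnit.unit, Groth.Agent.H49.points_surjective_of_repWith_surjective p hpS x⟩⟩

theorem hasP_of_repByAlgSpWith_tau {τ : AlgSp.CovNotion S} (hτ : AtlasCov τ)
    {𝒳 𝒴 : AlgSt.Cat S} (h𝒳 : FibCat.IsFibGrpd 𝒳.p)
    (h𝒴 : FibCat.IsFibGrpd 𝒴.p) (hPb : StableBC P)
    (hP : AlgSp.IsLocalOnBase τ P)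
    (f : 𝒳 ⥤ᵇ 𝒴) (hf : RepByAlgSpWith P f) (Z : AlgSp.Space S) (z : ofSp Z.obj ⥤ᵇ 𝒴) :
    ∃ (V : AlgSp.Space S) (a : V ⟶ Z) (e : ofSp V.obj ⥤ᵇ FibCat.fp z f),
      FibCat.IsEquivOver e ∧
        Nonempty (BasedFunctor.comp e (FibCat.fpFst z f) ≅ ofSpMap a.hom) ∧ P a.hom := by
  have hf1 : RepByAlgSp1 f := RepByAlgSpWith.repByAlgSp1 hf
  obtain ⟨V, e, he⟩ := FpRep.main h𝒳 h𝒴 f z hf1 ⟨Z, BasedFunctor.id _, isEquivOver_id _⟩
  let Pr : ofSp V.obj ⥤ᵇ ofSp Z.obj := BasedFunctor.comp e (FibCat.fpFst z f)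
  let a₀ : V.obj.obj ⟶ Z.obj.obj := pshMapOf Pr
  obtain ⟨β⟩ := nonempty_iso_ofPshMap Pr
  let a' : V.obj ⟶ Z.obj := ObjectProperty.homMk a₀
  let a : V ⟶ Z := ObjectProperty.homMk a'
  refine ⟨V, a, e, he, ⟨β.symm⟩, ?_⟩
  show P a'
  obtain ⟨U, p, hpE, hpS⟩ := Z.property.atlas
  have sq := IsPullback.of_hasPullback a' p
  have hV' : AlgSp.IsAlgSpace (pullback a' p) :=
    Groth.Agent.H49.isAlgSpace_of_isPullback sq Z.property.diag V.property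
      (AlgSp.IsAlgSpace.yon_obj U)
  have key := hP (fun _ : PUnit.{u+1} => (AlgSp.yon S).obj U) (fun _ => p) Z.property
    (fun _ => AlgSp.IsAlgSpace.yon_obj U) (hτ p hpE hpS) a' V.property
    (fun _ => pullback a' p) (fun _ => pullback.snd a' p) (fun _ => pullback.fst a' p)
    (fun _ => hV') (fun _ => sq)
  rw [key]
  intro _
  -- the base change to the atlas
  let x : Z.obj.obj.obj (op U) := uliftYonedaEquiv.{u+1} p.hom
  let s : FibCat.overCat U ⥤ᵇ ofSp Z.obj := ofSection x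
  have hs : elOf s = uliftYonedaEquiv.{u+1} p.hom := elOf_ofSection x
  obtain ⟨F₁, e₁, he₁, hP₁⟩ := hf U (BasedFunctor.comp s z)
  have sq' : IsPullback (pullback.fst a' p).hom (pullback.snd a' p).hom a₀ p.hom :=
    sq.map (sheafToPresheaf _ _)
  let L : Stk.ofPsh (pullback a' p).obj ⥤ᵇ FibCat.fp s (Stk.ofPshMap a₀) := pbLiftSq s sq' hs
  have hL : FibCat.IsEquivOver L := isEquivOver_pbLiftSq s sq' hs
  obtain ⟨Ψ, hΨ, hΨ1⟩ := exists_equiv_fp_of_square (FibCat.fpFst z f) (Stk.ofPshMap a₀) e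
    (BasedFunctor.id _) he (isEquivOver_id _) β s
  let M : ofSp (pullback a' p) ⥤ᵇ FibCat.fp s (FibCat.fpFst z f) := BasedFunctor.comp L Ψ
  have hM : FibCat.IsEquivOver M := isEquivOver_comp hL hΨ
  let N : ofSp F₁.obj ⥤ᵇ FibCat.fp s (FibCat.fpFst z f) := BasedFunctor.comp e₁ (fpPaste f z s)
  have hN : FibCat.IsEquivOver N := isEquivOver_comp he₁ (isEquivOver_fpPaste f z s)
  have hMΦ : BasedFunctor.comp M (FibCat.fpFst s (FibCat.fpFst z f)) =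
      BasedFunctor.comp (Stk.ofPshMap (pullback.snd a' p).hom) (toOv.{u+1} U) := by
    have hΨ1' : BasedFunctor.comp Ψ (FibCat.fpFst s (FibCat.fpFst z f)) =
        FibCat.fpFst s (Stk.ofPshMap a₀) := hΨ1
    show BasedFunctor.comp L (BasedFunctor.comp Ψ (FibCat.fpFst s (FibCat.fpFst z f))) = _
    rw [hΨ1']
    rfl
  obtain ⟨ψ, hψ, hψ2⟩ := spMapOfOver_eq_of_equiv (FibCat.fpFst s (FibCat.fpFst z f)) N M hM
    (pullback.snd a' p).hom (eqToHom hMΦ)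
  have := hψ hN
  have hP₂ : P (ψ ≫ pullback.snd a' p) := by
    have h3 : spMapOfOver (BasedFunctor.comp e₁ (FibCat.fpFst (BasedFunctor.comp s z) f)) =
        ψ ≫ pullback.snd a' p := hψ2
    rw [← h3]
    exact hP₁
  exact hPb.of_iso_comp hV' F₁.property (AlgSp.IsAlgSpace.yon_obj U) ψ _ hP₂

theorem repByAlgSpWith_comp_tau {τ : AlgSp.CovNotion S} (hτ : AtlasCov τ)
    {𝒳 𝒴 𝒵 : AlgSt.Cat S}
    (h𝒳 : FibCat.IsFibGrpd 𝒳.p) (h𝒴 : FibCat.IsFibGrpd 𝒴.p)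
    (hPb : StableBC P)
    (hPc : ∀ ⦃X Y Z : AlgSp.Sp S⦄, AlgSp.IsAlgSpace X → AlgSp.IsAlgSpace Y → AlgSp.IsAlgSpace Z →
      ∀ (a : X ⟶ Y) (b : Y ⟶ Z), P a → P b → P (a ≫ b))
    (hP : AlgSp.IsLocalOnBase τ P)
    (f : 𝒳 ⥤ᵇ 𝒴) (g : 𝒴 ⥤ᵇ 𝒵) (hf : RepByAlgSpWith P f) (hg : RepByAlgSpWith P g) :
    RepByAlgSpWith P (BasedFunctor.comp f g) := by
  intro U z
  obtain ⟨G₀, eg, heg, hPb₀⟩ := hg U z
  obtain ⟨V, a, e, he, ⟨α⟩, hPa⟩ := hasP_of_repByAlgSpWith_tau hτ h𝒳 h𝒴 hPb hP f hf G₀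
    (BasedFunctor.comp eg (FibCat.fpSnd z g))
  obtain ⟨Ψ, hΨ, hΨ1⟩ := isEquivOver_fpMap_left f (FibCat.fpSnd z g) eg heg
  obtain ⟨e', he', h1⟩ := exists_equiv_spMapOfOver_eq (fpPaste₂ f g z) (isEquivOver_fpPaste₂ f g z)
    (BasedFunctor.comp (FibCat.fpFst (FibCat.fpSnd z g) f) (FibCat.fpFst z g))
    (BasedFunctor.comp e Ψ) (isEquivOver_comp he hΨ)
  refine ⟨V, e', he', ?_⟩
  have h0 : BasedFunctor.comp e' (FibCat.fpFst z (BasedFunctor.comp f g)) =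
      BasedFunctor.comp e' (BasedFunctor.comp (fpPaste₂ f g z)
        (BasedFunctor.comp (FibCat.fpFst (FibCat.fpSnd z g) f) (FibCat.fpFst z g))) := rfl
  have h2 : BasedFunctor.comp (BasedFunctor.comp e Ψ)
      (BasedFunctor.comp (FibCat.fpFst (FibCat.fpSnd z g) f) (FibCat.fpFst z g)) =
      BasedFunctor.comp (BasedFunctor.comp e
        (FibCat.fpFst (BasedFunctor.comp eg (FibCat.fpSnd z g)) f))
        (BasedFunctor.comp eg (FibCat.fpFst z g)) :=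
    congrArg (fun t => BasedFunctor.comp e (BasedFunctor.comp t (FibCat.fpFst z g))) hΨ1
  have h3 : spMapOfOver (F := V.obj) (U := U) (BasedFunctor.comp (BasedFunctor.comp e
        (FibCat.fpFst (BasedFunctor.comp eg (FibCat.fpSnd z g)) f))
        (BasedFunctor.comp eg (FibCat.fpFst z g))) =
      spMapOfOver (F := V.obj) (U := U) (BasedFunctor.comp (ofSpMap a.hom)
        (BasedFunctor.comp eg (FibCat.fpFst z g))) :=
    spMapOfOver_eq_of_hom (BasedCategory.whiskerRight α.hom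
      (BasedFunctor.comp eg (FibCat.fpFst z g)))
  have h4 : spMapOfOver (F := V.obj) (U := U)
      (BasedFunctor.comp e' (FibCat.fpFst z (BasedFunctor.comp f g))) =
      a.hom ≫ spMapOfOver (BasedFunctor.comp eg (FibCat.fpFst z g)) :=
    (congrArg (spMapOfOver (F := V.obj) (U := U)) h0).trans
      (h1.trans ((congrArg (spMapOfOver (F := V.obj) (U := U)) h2).trans
        (h3.trans (spMapOfOver_ofSpMap_comp a.hom _))))
  rw [h4]
  exact hPc V.property G₀.property (AlgSp.IsAlgSpace.yon_obj U) _ _ hPa hPb₀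

open Groth.Agent.H65.AlgStCmp Groth.Agent.H65.AlgStDiagComp in
/-- if the diagonals of `f` and `g` have `P` then so does the diagonal of `f ⋙ g` -/
theorem repByAlgSpWith_diag_comp_tau {τ : AlgSp.CovNotion S} (hτ : AtlasCov τ)
    {𝒳 𝒴 𝒵 : AlgSt.Cat S} (hPb : StableBC P)
    (hPc : ∀ ⦃X Y Z : AlgSp.Sp S⦄, AlgSp.IsAlgSpace X → AlgSp.IsAlgSpace Y → AlgSp.IsAlgSpace Z →
      ∀ (a : X ⟶ Y) (b : Y ⟶ Z), P a → P b → P (a ≫ b))
    (hP : AlgSp.IsLocalOnBase τ P)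
    (h𝒳 : FibCat.IsFibGrpd 𝒳.p) (h𝒴 : FibCat.IsFibGrpd 𝒴.p) (h𝒵 : FibCat.IsFibGrpd 𝒵.p)
    (f : 𝒳 ⥤ᵇ 𝒴) (g : 𝒴 ⥤ᵇ 𝒵) (hf : RepByAlgSpWith P (FibCat.diag f))
    (hg : RepByAlgSpWith P (FibCat.diag g)) :
    RepByAlgSpWith P (FibCat.diag (BasedFunctor.comp f g)) := by
  have h1 : RepByAlgSpWith P (cmp f f g) := repByAlgSpWith_cmp P h𝒳 h𝒳 h𝒴 h𝒵 f f g hg
  have hfp : FibCat.IsFibGrpd (FibCat.fp f f).p := isFibGrpd_fp _ _ h𝒳 h𝒳 h𝒴
  have h2 : RepByAlgSpWith P (BasedFunctor.comp (FibCat.diag f) (cmp f f g)) :=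
    repByAlgSpWith_comp_tau hτ h𝒳 hfp hPb hPc hP (FibCat.diag f) (cmp f f g) hf h1
  exact repByAlgSpWith_of_square P (BasedFunctor.comp (FibCat.diag f) (cmp f f g))
    (FibCat.diag (BasedFunctor.comp f g)) (BasedFunctor.id _) (BasedFunctor.id _)
    (isEquivOver_id _) (isEquivOver_id _) (diagCompIso f g).symm h2

end Groth.Agent.H64.Et
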