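import Groth.Agent.H64.Et.RepAt
import Groth.Agent.H64.Stk.Whisker

set_option autoImplicit false
open CategoryTheory CategoryTheory.Limits Opposite AlgebraicGeometry
universe v₂ u₂ v₃ u₃ u

/-! If the diagonals of all base changes of `f` to schemes have `P`, so does the diagonal of `f`. -/

namespace Groth.Agent.H64.Et

open Groth.Agent.H32 Groth.Agent.H64 Groth.Agent.H64.PTh AlgSt

variable {S : Scheme.{u}} (P : MorphismProperty (AlgSp.Sp S))
variable {𝒳 : BasedCategory.{v₂, u₂} (Over S)} {𝒴 : BasedCategory.{v₃, u₃} (Over S)}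
  (f : 𝒳 ⥤ᵇ 𝒴)

section conv

variable {T : Over S} (z : FibCat.overCat T ⥤ᵇ FibCat.fp f f)

/-- the point of `𝒴` under a point of `𝒳 ×_𝒴 𝒳` -/
def cvY : FibCat.overCat T ⥤ᵇ 𝒴 :=
  BasedFunctor.comp (BasedFunctor.comp z (FibCat.fpFst f f)) f

/-- first section of the base change -/
def cvS₁ : FibCat.overCat T ⥤ᵇ FibCat.fp (cvY f z) f :=
  FibCat.fpLift (F := cvY f z) (G := f) (BasedFunctor.id _)
    (BasedFunctor.comp z (FibCat.fpFst f f)) (Iso.refl _)

/-- second section of the base change -/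
def cvS₂ : FibCat.overCat T ⥤ᵇ FibCat.fp (cvY f z) f :=
  FibCat.fpLift (F := cvY f z) (G := f) (BasedFunctor.id _)
    (BasedFunctor.comp z (FibCat.fpSnd f f)) (bwlIso z (FibCat.fpIso f f))

/-- the pair of sections -/
def cvW : FibCat.overCat T ⥤ᵇ
    FibCat.fp (FibCat.fpFst (cvY f z) f) (FibCat.fpFst (cvY f z) f) :=
  FibCat.fpLift (F := FibCat.fpFst (cvY f z) f) (G := FibCat.fpFst (cvY f z) f)
    (cvS₁ f z) (cvS₂ f z) (Iso.refl _)

theorem cv_aux {D : Type*} [Category D] {A B : D} (α : A ⟶ B) (a : A ⟶ A) (ha : a = 𝟙 A)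
    (i : A ⟶ A) (hi : i = 𝟙 A) (m : A ⟶ A) (hm : m = 𝟙 A) (b : B ⟶ B) (hb : b = 𝟙 B) :
    a ≫ α = (i ≫ m ≫ α) ≫ b := by
  subst ha hi hm hb; simp

/-- the pair of sections lies over the given point -/
def cvIso : BasedFunctor.comp (cvW f z) (diagBCq f (cvY f z)) ≅ z :=
  fpFunctorIsoMk f f (G := BasedFunctor.comp (cvW f z) (diagBCq f (cvY f z))) (H := z)
    (Iso.refl _) (Iso.refl _) (fun t => by
      rw [show ((BasedFunctor.comp (cvW f z) (diagBCq f (cvY f z))).obj t).obj.iso.hom =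
        ((cvW f z).obj t).obj.fst.obj.iso.inv ≫ (cvY f z).map ((cvW f z).obj t).obj.iso.hom ≫
          ((cvW f z).obj t).obj.snd.obj.iso.hom from diagBCq_obj_iso_hom f (cvY f z) _]
      refine cv_aux (z.obj t).obj.iso.hom _ ?_ _ ?_ _ ?_ _ ?_
      · exact f.map_id _
      · rfl
      · exact (cvY f z).map_id _
      · exact f.map_id _)

end conv

theorem repByAlgSpWith_diag_of_forall (h𝒳 : FibCat.IsFibGrpd 𝒳.p) (h𝒴 : FibCat.IsFibGrpd 𝒴.p)
    (h : ∀ (T : Over S) (y : FibCat.overCat T ⥤ᵇ 𝒴),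
      RepByAlgSpWith P (FibCat.diag (FibCat.fpFst y f))) :
    RepByAlgSpWith P (FibCat.diag f) := by
  intro T z
  show RepAt P (FibCat.diag f) z
  refine repAt_of_iso P (FibCat.diag f) (cvIso f z) ?_
  rw [← repAt_fpFst_iff]
  have hT : FibCat.IsFibGrpd (FibCat.overCat T).p := (Groth.Agent.H64.Recog.isFibSetoid_overCat T).1
  have key := repAt_of_square P (FibCat.fpFst (diagBCq f (cvY f z)) (FibCat.diag f))
    (FibCat.diag (FibCat.fpFst (cvY f z) f)) (diagBCΛ f (cvY f z)) (BasedFunctor.id _)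
    (isEquivOver_diagBCΛ f (cvY f z) h𝒳 h𝒴 hT) (isEquivOver_id _) (Iso.refl _) (cvW f z)
  exact key.1 (h T (cvY f z) T (cvW f z))

end Groth.Agent.H64.Et
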