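import Groth.Agent.H64.Psh.FpAlg
import Groth.Agent.H64.Et.AlgOfBC

set_option autoImplicit false
open CategoryTheory CategoryTheory.Limits Opposite AlgebraicGeometry
universe v₂ u₂ v u

/-! 2-fibre products of algebraic (Deligne–Mumford) stacks, for any topology. -/

namespace Groth.Agent.H64.Et

open Groth.Agent.H32 Groth.Agent.H26 Groth.Agent.H64 Groth.Agent.H64.Recog Groth.Agent.H64.FpRep
  Groth.Agent.H64.PTh AlgSt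

theorem isPrestack_of_isStack {C : Type u} [Category.{v} C] (J : GrothendieckTopology C)
    {𝒳 : BasedCategory.{v₂, u₂} C} (h : Stk.IsStack J 𝒳) : Stk.IsPrestack J 𝒳 :=
  ⟨h.1, fun _ R hR => by
    have : (Stk.resSieve R 𝒳).IsEquivalence := h.2 R hR
    exact ⟨inferInstance, inferInstance⟩⟩

variable {S : Scheme.{u}} {𝒳 𝒴 𝒵 : AlgSt.Cat S}

theorem hasAtlas_prod (Q : MorphismProperty (AlgSp.Sp S)) (hQb : StableBC Q)
    (hQc : ∀ ⦃X Y Z : AlgSp.Sp S⦄, AlgSp.IsAlgSpace X → AlgSp.IsAlgSpace Y → AlgSp.IsAlgSpace Z →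
      ∀ (a : X ⟶ Y) (b : Y ⟶ Z), Q a → Q b → Q (a ≫ b))
    (hQ : AlgSp.IsLocalOnBase AlgSp.IsFppfCover Q)
    (h𝒴g : FibCat.IsFibGrpd 𝒴.p) (hx : HasAtlas Q 𝒳) (hy : HasAtlas Q 𝒴) :
    HasAtlas Q (FibCat.fp (FibCat.toSelf 𝒳) (FibCat.toSelf 𝒴)) := by
  obtain ⟨U, x, hx1, hx2⟩ := hx
  obtain ⟨V, y, hy1, hy2⟩ := hy
  obtain ⟨e⟩ := self_biso_nonempty
    (BasedFunctor.comp (BasedFunctor.comp
        (FibCat.fpFst (FibCat.toSelf (FibCat.overCat U)) (FibCat.toSelf (FibCat.overCat V))) x)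
        (FibCat.toSelf 𝒳))
    (BasedFunctor.comp (BasedFunctor.comp
        (FibCat.fpSnd (FibCat.toSelf (FibCat.overCat U)) (FibCat.toSelf (FibCat.overCat V))) y)
        (FibCat.toSelf 𝒴))
  refine ⟨U ⨯ V, BasedFunctor.comp (ovProdLift U V) (prodF x y e), ?_, ?_⟩
  · exact repByAlgSpWith_prod_atlas h𝒴g hQb hQc hQ x y hx1 hy1 e
  · exact repByAlgSpWith_prod_atlas h𝒴g stableBC_surj
      (fun _ _ _ _ _ _ _ _ ha hb => Groth.Agent.H49.isSurjectiveMor_comp ha hb)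
      isLocalOnBase_fppf_surj x y hx2 hy2 e

theorem isAlgStack_prod_K (K : Precoverage Scheme.{u}) (h𝒳 : IsAlgStack K 𝒳)
    (h𝒴 : IsAlgStack K 𝒴) :
    IsAlgStack K (FibCat.fp (FibCat.toSelf 𝒳) (FibCat.toSelf 𝒴)) where
  isStack := isStack_fp _ _ _ h𝒳.isStack h𝒴.isStack (isPrestack_selfOver _)
  diag := repByAlgSp1_diag_prod h𝒴.isStack.1 h𝒳.diag h𝒴.diag
  atlas := hasAtlas_prod _ (stableBC_locP Groth.Agent.H50.goodClass_smooth)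
    (fun _ _ _ _ hY _ a b ha hb => Groth.Agent.H50.goodClass_smooth.locP_comp hY a b ha hb)
    isLocalOnBase_fppf_smooth h𝒴.isStack.1 h𝒳.atlas h𝒴.atlas

/-- pulling back an atlas with property `Q` (satisfied by etale atlases of algebraic spaces) along
a morphism representable by algebraic spaces -/
theorem hasAtlas_of_repByAlgSp1_gen (Q : MorphismProperty (AlgSp.Sp S)) (hQb : StableBC Q)
    (hQc : ∀ ⦃X Y Z : AlgSp.Sp S⦄, AlgSp.IsAlgSpace X → AlgSp.IsAlgSpace Y → AlgSp.IsAlgSpace Z →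
      ∀ (a : X ⟶ Y) (b : Y ⟶ Z), Q a → Q b → Q (a ≫ b))
    (hQ : AlgSp.IsLocalOnBase AlgSp.IsFppfCover Q)
    (hQe : ∀ {F : AlgSp.Sp S} {W : Over S} (p : (AlgSp.yon S).obj W ⟶ F),
      AlgSp.RepWith @Etale p → ∀ ⦃T : Over S⦄ (ξ : (AlgSp.yon S).obj T ⟶ F) ⦃F' : AlgSp.Sp S⦄
      (fst : F' ⟶ (AlgSp.yon S).obj W) (snd : F' ⟶ (AlgSp.yon S).obj T),
      IsPullback fst snd p ξ → Q snd)
    (h𝒳 : FibCat.IsFibGrpd 𝒳.p)
    (j : 𝒳 ⥤ᵇ 𝒴) (hj : RepByAlgSp1 j) (hat : HasAtlas Q 𝒴) :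
    HasAtlas Q 𝒳 := by
  obtain ⟨U₀, y₀, hy₁, hy₂⟩ := hat
  obtain ⟨F, eF, heF⟩ := hj U₀ y₀
  obtain ⟨W, p, hpE, hpS⟩ := F.property.atlas
  let s : FibCat.overCat W ⥤ᵇ ofSp F.obj := ofSection (uliftYonedaEquiv.{u+1} p.hom)
  have hF : FibCat.IsFibGrpd (ofSp F.obj).p := Stk.isFibGrpd_ofPsh _
  have key : ∀ (Q : MorphismProperty (AlgSp.Sp S)), StableBC Q →
      (∀ ⦃X Y Z : AlgSp.Sp S⦄, AlgSp.IsAlgSpace X → AlgSp.IsAlgSpace Y → AlgSp.IsAlgSpace Z →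
        ∀ (a : X ⟶ Y) (b : Y ⟶ Z), Q a → Q b → Q (a ≫ b)) →
      AlgSp.IsLocalOnBase AlgSp.IsFppfCover Q → RepByAlgSpWith Q s → RepByAlgSpWith Q y₀ →
      RepByAlgSpWith Q (BasedFunctor.comp s (BasedFunctor.comp eF (FibCat.fpSnd y₀ j))) := by
    intro Q hQb hQc hQ hs hy
    have h1 : RepByAlgSpWith Q (FibCat.fpSnd y₀ j) := repByAlgSpWith_fpSnd Q y₀ j hy
    have h2 : RepByAlgSpWith Q (BasedFunctor.comp eF (FibCat.fpSnd y₀ j)) :=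
      repByAlgSpWith_of_square Q (FibCat.fpSnd y₀ j) _ eF (BasedFunctor.id _) heF
        (isEquivOver_id _) (Iso.refl _) h1
    exact repByAlgSpWith_comp (isFibSetoid_overCat W).1 hF hQb hQc hQ s _ hs h2
  refine ⟨W, BasedFunctor.comp s (BasedFunctor.comp eF (FibCat.fpSnd y₀ j)), ?_, ?_⟩
  · exact key _ hQb hQc hQ (repByAlgSpWith_ofSection _ F.property p (hQe p hpE)) hy₁
  · exact key _ stableBC_surj
      (fun _ _ _ _ _ _ _ _ ha hb => Groth.Agent.H49.isSurjectiveMor_comp ha hb)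
      isLocalOnBase_fppf_surj
      (repByAlgSpWith_ofSection _ F.property p (baseChange_surj_of_surjective p hpS)) hy₂

theorem hasAtlas_etale_of_repByAlgSp1 (h𝒳 : FibCat.IsFibGrpd 𝒳.p)
    (j : 𝒳 ⥤ᵇ 𝒴) (hj : RepByAlgSp1 j) (hat : HasAtlas AlgSp.IsEtaleMor 𝒴) :
    HasAtlas AlgSp.IsEtaleMor 𝒳 :=
  hasAtlas_of_repByAlgSp1_gen _ stableBC_etale
    (fun _ _ _ _ _ _ a b ha hb => isEtaleMor_comp a b ha hb) isLocalOnBase_fppf_etale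
    (fun p hpE => baseChange_isEtaleMor_of_etale p hpE) h𝒳 j hj hat

theorem isAlgStack_of_repByAlgSp1_K (K : Precoverage Scheme.{u})
    (h𝒳 : Stk.IsStack (QuotSh.J K S) 𝒳) (h𝒴 : IsAlgStack K 𝒴)
    (j : 𝒳 ⥤ᵇ 𝒴) (hj : RepByAlgSp1 j) : IsAlgStack K 𝒳 where
  isStack := h𝒳
  diag := repByAlgSp1_diag_iff.mpr (fun U x =>
    repByAlgSp1_of_comp x j hj (repByAlgSp1_of_diag h𝒴.diag U (BasedFunctor.comp x j)))
  atlas := hasAtlas_of_repByAlgSp1 h𝒳.1 j hj h𝒴.atlas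

theorem isAlgStack_fp_K (K : Precoverage Scheme.{u}) (h𝒵 : Stk.IsStack (QuotSh.J K S) 𝒵)
    (hΔ : RepByAlgSp1 (FibCat.diag (FibCat.toSelf 𝒵)))
    (h𝒳 : IsAlgStack K 𝒳) (h𝒴 : IsAlgStack K 𝒴)
    (f : 𝒳 ⥤ᵇ 𝒵) (g : 𝒴 ⥤ᵇ 𝒵) : IsAlgStack K (FibCat.fp f g) := by
  obtain ⟨e⟩ := nonempty_canonE f g
  have hP := isAlgStack_prod_K K h𝒳 h𝒴
  have hZZ : Stk.IsStack (QuotSh.J K S) (FibCat.fp (FibCat.toSelf 𝒵) (FibCat.toSelf 𝒵)) :=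
    isStack_fp _ _ _ h𝒵 h𝒵 (isPrestack_selfOver _)
  have hQ : Stk.IsStack (QuotSh.J K S)
      (FibCat.fp (prodF f g e) (FibCat.diag (FibCat.toSelf 𝒵))) :=
    isStack_fp _ _ _ hP.isStack h𝒵 (isPrestack_of_isStack _ hZZ)
  have hj : RepByAlgSp1 (FibCat.fpFst (prodF f g e) (FibCat.diag (FibCat.toSelf 𝒵))) :=
    repByAlgSp1_fpFst _ _ hΔ
  exact isAlgStack_of_isEquivOver _ (magicN f g e) (isEquivOver_magicN f g e)
    (isAlgStack_of_repByAlgSp1_K K hQ hP _ hj)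

theorem isDM_fp_K (K : Precoverage Scheme.{u}) (h𝒵 : Stk.IsStack (QuotSh.J K S) 𝒵)
    (hΔ : RepByAlgSp1 (FibCat.diag (FibCat.toSelf 𝒵)))
    (h𝒳 : IsDM K 𝒳) (h𝒴 : IsDM K 𝒴)
    (f : 𝒳 ⥤ᵇ 𝒵) (g : 𝒴 ⥤ᵇ 𝒵) : IsDM K (FibCat.fp f g) := by
  obtain ⟨e⟩ := nonempty_canonE f g
  have hP := isAlgStack_prod_K K h𝒳.1 h𝒴.1
  have hPe : HasAtlas AlgSp.IsEtaleMor (FibCat.fp (FibCat.toSelf 𝒳) (FibCat.toSelf 𝒴)) :=
    hasAtlas_prod _ stableBC_etale (fun _ _ _ _ _ _ a b ha hb => isEtaleMor_comp a b ha hb)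
      isLocalOnBase_fppf_etale h𝒴.1.isStack.1 h𝒳.2 h𝒴.2
  have hZZ : Stk.IsStack (QuotSh.J K S) (FibCat.fp (FibCat.toSelf 𝒵) (FibCat.toSelf 𝒵)) :=
    isStack_fp _ _ _ h𝒵 h𝒵 (isPrestack_selfOver _)
  have hQ : Stk.IsStack (QuotSh.J K S)
      (FibCat.fp (prodF f g e) (FibCat.diag (FibCat.toSelf 𝒵))) :=
    isStack_fp _ _ _ hP.isStack h𝒵 (isPrestack_of_isStack _ hZZ)
  have hj : RepByAlgSp1 (FibCat.fpFst (prodF f g e) (FibCat.diag (FibCat.toSelf 𝒵))) :=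
    repByAlgSp1_fpFst _ _ hΔ
  have hDM : IsDM K (FibCat.fp (prodF f g e) (FibCat.diag (FibCat.toSelf 𝒵))) :=
    ⟨isAlgStack_of_repByAlgSp1_K K hQ hP _ hj, hasAtlas_etale_of_repByAlgSp1 hQ.1 _ hj hPe⟩
  exact (isDM_iff_of_isEquivOver K (magicN f g e) (isEquivOver_magicN f g e)).mp hDM

end Groth.Agent.H64.Et
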