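import Groth.Agent.H64.Et.CompTau
import Groth.Agent.H64.Et.DiagConv
import Groth.Agent.H64.Stk.FpSwap

set_option autoImplicit false
open CategoryTheory CategoryTheory.Limits Opposite AlgebraicGeometry
universe v₂ u₂ v₃ u₃ v₄ u₄ v₅ u₅ u

/-! The diagonal of a product of morphisms `f ×_𝒵 g`. -/

namespace Groth.Agent.H64.Et

open Groth.Agent.H32 Groth.Agent.H64 Groth.Agent.H64.PTh AlgSt

variable {S : Scheme.{u}} (P : MorphismProperty (AlgSp.Sp S))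

section square

variable {𝒳 : BasedCategory.{v₂, u₂} (Over S)} {𝒴 : BasedCategory.{v₃, u₃} (Over S)}
  {𝒳' : BasedCategory.{v₄, u₄} (Over S)} {𝒴' : BasedCategory.{v₅, u₅} (Over S)}

/-- the property of the diagonal transfers across 2-commutative squares of equivalences -/
theorem repByAlgSpWith_diag_of_square (f : 𝒳 ⥤ᵇ 𝒴) (f' : 𝒳' ⥤ᵇ 𝒴') (a : 𝒳' ⥤ᵇ 𝒳) (c : 𝒴' ⥤ᵇ 𝒴)
    (ha : FibCat.IsEquivOver a) (hc : FibCat.IsEquivOver c)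
    (α : BasedFunctor.comp f' c ≅ BasedFunctor.comp a f)
    (h : RepByAlgSpWith P (FibCat.diag f)) : RepByAlgSpWith P (FibCat.diag f') := by
  have := full_of_isEquivOver hc
  have := faithful_of_isEquivOver hc
  exact repByAlgSpWith_of_square P (FibCat.diag f) (FibCat.diag f') a (diagSqMap f f' a c α) ha
    (isEquivOver_diagSqMap f f' a c α ha) (diagSqIso f f' a c α) h

theorem repByAlgSpWith_diag_of_iso {f f' : 𝒳 ⥤ᵇ 𝒴} (α : f' ≅ f)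
    (h : RepByAlgSpWith P (FibCat.diag f)) : RepByAlgSpWith P (FibCat.diag f') :=
  repByAlgSpWith_diag_of_square P f f' (BasedFunctor.id _) (BasedFunctor.id _) (isEquivOver_id _)
    (isEquivOver_id _) α h

end square

section factors

variable {𝒲 𝒳 𝒳' 𝒵 : AlgSt.Cat S}

/-- right factor: `𝒲 ×_𝒵 𝒳 ⟶ 𝒲 ×_𝒵 𝒳'` is a base change of `f : 𝒳 ⟶ 𝒳'` -/
theorem repByAlgSpWith_diag_fpPaste₂Fst (h𝒲 : FibCat.IsFibGrpd 𝒲.p) (h𝒳 : FibCat.IsFibGrpd 𝒳.p)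
    (h𝒳' : FibCat.IsFibGrpd 𝒳'.p) (h𝒵 : FibCat.IsFibGrpd 𝒵.p)
    (f : 𝒳 ⥤ᵇ 𝒳') (p : 𝒳' ⥤ᵇ 𝒵) (G : 𝒲 ⥤ᵇ 𝒵) (h : RepByAlgSpWith P (FibCat.diag f)) :
    RepByAlgSpWith P (FibCat.diag (fpPaste₂Fst f p G)) := by
  have h1 : RepByAlgSpWith P (FibCat.diag (FibCat.fpFst (FibCat.fpSnd G p) f)) :=
    repByAlgSpWith_diag_fpFst P h𝒳 h𝒳' (isFibGrpd_fp _ _ h𝒲 h𝒳' h𝒵) f (FibCat.fpSnd G p) h
  exact repByAlgSpWith_diag_of_square P (FibCat.fpFst (FibCat.fpSnd G p) f) (fpPaste₂Fst f p G)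
    (fpPaste₂ f p G) (BasedFunctor.id _) (isEquivOver_fpPaste₂ f p G) (isEquivOver_id _)
    (Iso.refl _) h1

/-- left factor: `𝒳 ×_𝒵 𝒲 ⟶ 𝒳' ×_𝒵 𝒲` -/
def fpLeftMap (f : 𝒳 ⥤ᵇ 𝒳') (p : 𝒳' ⥤ᵇ 𝒵) (G : 𝒲 ⥤ᵇ 𝒵) :
    FibCat.fp (BasedFunctor.comp f p) G ⥤ᵇ FibCat.fp p G :=
  FibCat.fpLift (F := p) (G := G)
    (BasedFunctor.comp (FibCat.fpFst (BasedFunctor.comp f p) G) f)
    (FibCat.fpSnd (BasedFunctor.comp f p) G) (FibCat.fpIso (BasedFunctor.comp f p) G)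

theorem left_aux {D : Type*} [Category D] {A B : D} (φ : A ≅ B) (a : A ⟶ A) (ha : a = 𝟙 A)
    (b : B ⟶ B) (hb : b = 𝟙 B) : b ≫ φ.symm.hom = φ.inv ≫ a := by
  subst ha hb; simp

/-- the left factor is conjugate to the right factor under the swaps -/
def fpLeftMapIso (f : 𝒳 ⥤ᵇ 𝒳') (p : 𝒳' ⥤ᵇ 𝒵) (G : 𝒲 ⥤ᵇ 𝒵) :
    BasedFunctor.comp (fpLeftMap f p G) (fpSwap p G) ≅
      BasedFunctor.comp (fpSwap (BasedFunctor.comp f p) G) (fpPaste₂Fst f p G) :=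
  fpFunctorIsoMk G p
    (G := BasedFunctor.comp (fpLeftMap f p G) (fpSwap p G))
    (H := BasedFunctor.comp (fpSwap (BasedFunctor.comp f p) G) (fpPaste₂Fst f p G))
    (Iso.refl _) (Iso.refl _) (fun t => by
      refine left_aux t.obj.iso _ ?_ _ ?_
      · exact p.map_id _
      · exact G.map_id _)

theorem repByAlgSpWith_diag_fpLeftMap (h𝒲 : FibCat.IsFibGrpd 𝒲.p) (h𝒳 : FibCat.IsFibGrpd 𝒳.p)
    (h𝒳' : FibCat.IsFibGrpd 𝒳'.p) (h𝒵 : FibCat.IsFibGrpd 𝒵.p)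
    (f : 𝒳 ⥤ᵇ 𝒳') (p : 𝒳' ⥤ᵇ 𝒵) (G : 𝒲 ⥤ᵇ 𝒵) (h : RepByAlgSpWith P (FibCat.diag f)) :
    RepByAlgSpWith P (FibCat.diag (fpLeftMap f p G)) :=
  repByAlgSpWith_diag_of_square P (fpPaste₂Fst f p G) (fpLeftMap f p G)
    (fpSwap (BasedFunctor.comp f p) G) (fpSwap p G) (isEquivOver_fpSwap _ _)
    (isEquivOver_fpSwap _ _) (fpLeftMapIso f p G)
    (repByAlgSpWith_diag_fpPaste₂Fst P h𝒲 h𝒳 h𝒳' h𝒵 f p G h)

end factors

section prod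

variable {𝒳 𝒳' 𝒴 𝒴' 𝒵 : AlgSt.Cat S}

theorem prod_aux {D : Type*} [Category D] {A B : D} (φ ε : A ⟶ B) (h : ε = φ) (a : A ⟶ A)
    (ha : a = 𝟙 A) (b : B ⟶ B) (hb : b = 𝟙 B) : a ≫ ε = φ ≫ b := by
  subst ha hb h; simp

/-- the product map is the composite of its two factors -/
def fpProdMapIso (p' : 𝒳' ⥤ᵇ 𝒵) (q' : 𝒴' ⥤ᵇ 𝒵) (f : 𝒳 ⥤ᵇ 𝒳') (g : 𝒴 ⥤ᵇ 𝒴')
    (e : BasedFunctor.comp (BasedFunctor.comp (FibCat.fpFst (BasedFunctor.comp f p')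
        (BasedFunctor.comp g q')) f) p' ≅
      BasedFunctor.comp (BasedFunctor.comp (FibCat.fpSnd (BasedFunctor.comp f p')
        (BasedFunctor.comp g q')) g) q')
    (he : ∀ x, e.hom.toNatTrans.app x = x.obj.iso.hom) :
    BasedFunctor.comp (fpLeftMap f p' (BasedFunctor.comp g q')) (fpPaste₂Fst g q' p') ≅
      FibCat.fpLift (BasedFunctor.comp (FibCat.fpFst (BasedFunctor.comp f p')
        (BasedFunctor.comp g q')) f)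
        (BasedFunctor.comp (FibCat.fpSnd (BasedFunctor.comp f p') (BasedFunctor.comp g q')) g) e :=
  fpFunctorIsoMk p' q'
    (G := BasedFunctor.comp (fpLeftMap f p' (BasedFunctor.comp g q')) (fpPaste₂Fst g q' p'))
    (H := FibCat.fpLift (BasedFunctor.comp (FibCat.fpFst (BasedFunctor.comp f p')
        (BasedFunctor.comp g q')) f)
        (BasedFunctor.comp (FibCat.fpSnd (BasedFunctor.comp f p') (BasedFunctor.comp g q')) g) e)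
    (Iso.refl _) (Iso.refl _) (fun t => by
      refine prod_aux t.obj.iso.hom _ (he t) _ ?_ _ ?_
      · exact p'.map_id _
      · exact q'.map_id _)

theorem repByAlgSpWith_diag_fpProdMap {τ : AlgSp.CovNotion S} (hτ : AtlasCov τ)
    (hPb : StableBC P)
    (hPc : ∀ ⦃X Y Z : AlgSp.Sp S⦄, AlgSp.IsAlgSpace X → AlgSp.IsAlgSpace Y → AlgSp.IsAlgSpace Z →
      ∀ (a : X ⟶ Y) (b : Y ⟶ Z), P a → P b → P (a ≫ b))
    (hP : AlgSp.IsLocalOnBase τ P)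
    (h𝒳 : FibCat.IsFibGrpd 𝒳.p) (h𝒳' : FibCat.IsFibGrpd 𝒳'.p) (h𝒴 : FibCat.IsFibGrpd 𝒴.p)
    (h𝒴' : FibCat.IsFibGrpd 𝒴'.p) (h𝒵 : FibCat.IsFibGrpd 𝒵.p)
    (p' : 𝒳' ⥤ᵇ 𝒵) (q' : 𝒴' ⥤ᵇ 𝒵) (f : 𝒳 ⥤ᵇ 𝒳') (g : 𝒴 ⥤ᵇ 𝒴')
    (e : BasedFunctor.comp (BasedFunctor.comp (FibCat.fpFst (BasedFunctor.comp f p')
        (BasedFunctor.comp g q')) f) p' ≅
      BasedFunctor.comp (BasedFunctor.comp (FibCat.fpSnd (BasedFunctor.comp f p')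
        (BasedFunctor.comp g q')) g) q')
    (he : ∀ x, e.hom.toNatTrans.app x = x.obj.iso.hom)
    (hf : RepByAlgSpWith P (FibCat.diag f)) (hg : RepByAlgSpWith P (FibCat.diag g)) :
    RepByAlgSpWith P (FibCat.diag
      (FibCat.fpLift (BasedFunctor.comp (FibCat.fpFst (BasedFunctor.comp f p')
        (BasedFunctor.comp g q')) f)
        (BasedFunctor.comp (FibCat.fpSnd (BasedFunctor.comp f p') (BasedFunctor.comp g q')) g)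
        e)) := by
  have h1 : RepByAlgSpWith P (FibCat.diag (fpLeftMap f p' (BasedFunctor.comp g q'))) :=
    repByAlgSpWith_diag_fpLeftMap P h𝒴 h𝒳 h𝒳' h𝒵 f p' (BasedFunctor.comp g q') hf
  have h2 : RepByAlgSpWith P (FibCat.diag (fpPaste₂Fst g q' p')) :=
    repByAlgSpWith_diag_fpPaste₂Fst P h𝒳' h𝒴 h𝒴' h𝒵 g q' p' hg
  have h3 := repByAlgSpWith_diag_comp_tau hτ hPb hPc hP
    (isFibGrpd_fp _ _ h𝒳 h𝒴 h𝒵) (isFibGrpd_fp _ _ h𝒳' h𝒴 h𝒵) (isFibGrpd_fp _ _ h𝒳' h𝒴' h𝒵)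
    (fpLeftMap f p' (BasedFunctor.comp g q')) (fpPaste₂Fst g q' p') h1 h2
  exact repByAlgSpWith_diag_of_iso P (fpProdMapIso p' q' f g e he).symm h3

end prod

end Groth.Agent.H64.Et
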