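import Groth.Agent.H64.DiagBCAlg
import Groth.Agent.H64.Psh.PComp
import Groth.Agent.H64.Fib.DiagSquare

set_option autoImplicit false
open CategoryTheory CategoryTheory.Limits Opposite AlgebraicGeometry
universe v₂ u₂ v₃ u₃ v₄ u₄ v₅ u₅ u

/-! Pointwise representability with a property, and transfer along equivalences of the
2-fibre products. -/

namespace Groth.Agent.H64.Et

open Groth.Agent.H32 Groth.Agent.H64 Groth.Agent.H64.PTh AlgSt

variable {S : Scheme.{u}} (P : MorphismProperty (AlgSp.Sp S))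

/-- the condition of `RepByAlgSpWith P f` at one point `y` -/
def RepAt {𝒳 : BasedCategory.{v₂, u₂} (Over S)} {𝒴 : BasedCategory.{v₃, u₃} (Over S)}
    (f : 𝒳 ⥤ᵇ 𝒴) {U : Over S} (y : FibCat.overCat U ⥤ᵇ 𝒴) : Prop :=
  ∃ (F : AlgSp.Space S) (e : ofSp F.obj ⥤ᵇ FibCat.fp y f),
    FibCat.IsEquivOver e ∧ P (spMapOfOver (BasedFunctor.comp e (FibCat.fpFst y f)))

theorem repByAlgSpWith_iff_repAt {𝒳 : BasedCategory.{v₂, u₂} (Over S)}
    {𝒴 : BasedCategory.{v₃, u₃} (Over S)} (f : 𝒳 ⥤ᵇ 𝒴) :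
    RepByAlgSpWith P f ↔ ∀ (U : Over S) (y : FibCat.overCat U ⥤ᵇ 𝒴), RepAt P f y := Iff.rfl

variable {𝒳 : BasedCategory.{v₂, u₂} (Over S)} {𝒴 : BasedCategory.{v₃, u₃} (Over S)}
  {𝒳' : BasedCategory.{v₄, u₄} (Over S)} {𝒴' : BasedCategory.{v₅, u₅} (Over S)}

/-- transfer along an equivalence of the fibre products compatible (up to 2-isomorphism) with the
projections to the slice -/
theorem repAt_of_equiv (f : 𝒳 ⥤ᵇ 𝒴) (f' : 𝒳' ⥤ᵇ 𝒴') {U : Over S}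
    (y : FibCat.overCat U ⥤ᵇ 𝒴) (y' : FibCat.overCat U ⥤ᵇ 𝒴')
    (Ψ : FibCat.fp y' f' ⥤ᵇ FibCat.fp y f) (hΨ : FibCat.IsEquivOver Ψ)
    (ι : BasedFunctor.comp Ψ (FibCat.fpFst y f) ≅ FibCat.fpFst y' f')
    (h : RepAt P f' y') : RepAt P f y := by
  obtain ⟨F, e, he, hP⟩ := h
  refine ⟨F, BasedFunctor.comp e Ψ, isEquivOver_comp he hΨ, ?_⟩
  have h1 : spMapOfOver (F := F.obj) (U := U)
      (BasedFunctor.comp (BasedFunctor.comp e Ψ) (FibCat.fpFst y f)) =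
      spMapOfOver (F := F.obj) (U := U) (BasedFunctor.comp e (FibCat.fpFst y' f')) :=
    spMapOfOver_eq_of_hom (BasedCategory.whiskerLeft e ι.hom)
  rw [h1]
  exact hP

/-- transfer backwards along an equivalence of the fibre products -/
theorem repAt_of_equiv' (f : 𝒳 ⥤ᵇ 𝒴) (f' : 𝒳' ⥤ᵇ 𝒴') {U : Over S}
    (y : FibCat.overCat U ⥤ᵇ 𝒴) (y' : FibCat.overCat U ⥤ᵇ 𝒴')
    (Ψ : FibCat.fp y' f' ⥤ᵇ FibCat.fp y f) (hΨ : FibCat.IsEquivOver Ψ)
    (ι : BasedFunctor.comp Ψ (FibCat.fpFst y f) ≅ FibCat.fpFst y' f')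
    (h : RepAt P f y) : RepAt P f' y' := by
  obtain ⟨F, e, he, hP⟩ := h
  obtain ⟨d⟩ := IsEquivOver.nonempty_data hΨ
  refine ⟨F, BasedFunctor.comp e d.inv, isEquivOver_comp he (isEquivOver_inv d), ?_⟩
  have h1 : spMapOfOver (F := F.obj) (U := U)
      (BasedFunctor.comp (BasedFunctor.comp e d.inv) (FibCat.fpFst y' f')) =
      spMapOfOver (F := F.obj) (U := U)
        (BasedFunctor.comp (BasedFunctor.comp e d.inv)
          (BasedFunctor.comp Ψ (FibCat.fpFst y f))) :=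
    spMapOfOver_eq_of_hom (BasedCategory.whiskerLeft (BasedFunctor.comp e d.inv) ι.inv)
  have h2 : spMapOfOver (F := F.obj) (U := U)
        (BasedFunctor.comp (BasedFunctor.comp e d.inv)
          (BasedFunctor.comp Ψ (FibCat.fpFst y f))) =
      spMapOfOver (F := F.obj) (U := U) (BasedFunctor.comp e (FibCat.fpFst y f)) :=
    spMapOfOver_eq_of_hom
      (BasedCategory.whiskerLeft e (BasedCategory.whiskerRight d.counit.hom (FibCat.fpFst y f)))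
  rw [h1, h2]
  exact hP

/-- the condition at a point only depends on the 2-isomorphism class of the point -/
theorem repAt_of_iso (f : 𝒳 ⥤ᵇ 𝒴) {U : Over S} {y y' : FibCat.overCat U ⥤ᵇ 𝒴} (ι : y' ≅ y)
    (h : RepAt P f y') : RepAt P f y := by
  have : (BasedFunctor.id 𝒴).toFunctor.Full := (inferInstance : (𝟭 𝒴.obj).Full)
  have : (BasedFunctor.id 𝒴).toFunctor.Faithful := (inferInstance : (𝟭 𝒴.obj).Faithful)
  let Ψ : FibCat.fp y' f ⥤ᵇ FibCat.fp y f :=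
    fpMap y f y' f (BasedFunctor.id _) (BasedFunctor.id 𝒳) (BasedFunctor.id 𝒴) ι (Iso.refl _)
  have hΨ : FibCat.IsEquivOver Ψ :=
    isEquivOver_fpMap _ _ _ _ _ _ _ _ _ (isEquivOver_id _) (isEquivOver_id 𝒳)
  exact repAt_of_equiv P f f y y' Ψ hΨ (Iso.refl _) h

/-- the condition at `z` for the base change `fpFst g f` is the condition at `z ≫ g` for `f` -/
theorem repAt_fpFst_iff {𝒵 : BasedCategory.{v₄, u₄} (Over S)} (f : 𝒳 ⥤ᵇ 𝒴) (g : 𝒵 ⥤ᵇ 𝒴)
    {U : Over S} (z : FibCat.overCat U ⥤ᵇ 𝒵) :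
    RepAt P (FibCat.fpFst g f) z ↔ RepAt P f (BasedFunctor.comp z g) :=
  ⟨repAt_of_equiv' P (FibCat.fpFst g f) f z (BasedFunctor.comp z g) (fpPaste f g z)
      (isEquivOver_fpPaste f g z) (Iso.refl _),
    repAt_of_equiv P (FibCat.fpFst g f) f z (BasedFunctor.comp z g) (fpPaste f g z)
      (isEquivOver_fpPaste f g z) (Iso.refl _)⟩

/-- transfer of the pointwise condition across a 2-commutative square of equivalences -/
theorem repAt_of_square (f : 𝒳 ⥤ᵇ 𝒴) (f' : 𝒳' ⥤ᵇ 𝒴') (a : 𝒳' ⥤ᵇ 𝒳) (b : 𝒴' ⥤ᵇ 𝒴)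
    (ha : FibCat.IsEquivOver a) (hb : FibCat.IsEquivOver b)
    (e : BasedFunctor.comp f' b ≅ BasedFunctor.comp a f) {U : Over S}
    (y' : FibCat.overCat U ⥤ᵇ 𝒴') :
    RepAt P f' y' ↔ RepAt P f (BasedFunctor.comp y' b) := by
  have := full_of_isEquivOver hb
  have := faithful_of_isEquivOver hb
  let Ψ : FibCat.fp y' f' ⥤ᵇ FibCat.fp (BasedFunctor.comp y' b) f :=
    fpMap (BasedFunctor.comp y' b) f y' f' (BasedFunctor.id _) a b (Iso.refl _) e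
  have hΨ : FibCat.IsEquivOver Ψ :=
    isEquivOver_fpMap _ _ _ _ _ _ _ _ _ (isEquivOver_id _) ha
  exact ⟨repAt_of_equiv P f f' (BasedFunctor.comp y' b) y' Ψ hΨ (Iso.refl _),
    repAt_of_equiv' P f f' (BasedFunctor.comp y' b) y' Ψ hΨ (Iso.refl _)⟩

end Groth.Agent.H64.Et
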